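import Groth.Agent.Lib.FacDiv.Invertible
import Groth.Agent.Lib.ParaLocal.Point
import Groth.Agent.Lib.ParaPair.Local
import Groth.Agent.Lib.Depth.Hartogs
import Groth.Agent.S16087

/-!
# Locally principal divisors across parafactorial points
-/

set_option autoImplicit false
set_option backward.isDefEq.respectTransparency false
set_option backward.isDefEq.respectTransparency.types false

universe u

open CategoryTheory CategoryTheory.Limits Opposite AlgebraicGeometry TopologicalSpace GrothLib.Ref1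

namespace GrothLib.PrincipalAt

open GrothLib.FacDiv

variable {X : Scheme.{u}} [IsIntegral X] [IsLocallyNoetherian X] (hX : Pi1.IsNormalScheme X)

include hX in
/-- A rank one reflexive module is free where its divisor is principal. -/
theorem exists_gen_of_principal {F : X.Modules} (hF : RefHull.IsRef1 F) {v : F.presheaf.stalk (genericPoint X)}
    (hv : v ≠ 0) {x : X} {c : X.presheaf.stalk (genericPoint X)} (hc0 : c ≠ 0)
    (hc : ∀ y : X, y ⤳ x → Order.coheight y = 1 → ordg c y = secOrd F v y) : ∃ t, Gen F x t := by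
  have := hF.1.1
  have hrel := HomSh.hasRel_of_isCoh hF.1
  obtain ⟨e, he⟩ := exists_gen_of_genInvertible hF.2.2
  obtain ⟨d, hd⟩ := (isUnit_of_ne_zero hc0).exists_left_inv
  have hd0 : d ≠ 0 := left_ne_zero_of_mul_eq_one hd
  let v' := d • v
  have hv' : v' ≠ 0 := fun h => hv ((isUnit_of_ne_zero hd0).smul_eq_zero.1 h)
  have hloc : ∀ y : X, y ⤳ x → ringKrullDim (X.presheaf.stalk y) = 1 →
      ∃ (ty : F.presheaf.stalk y) (a : X.presheaf.stalk y), Gen F y ty ∧ IsUnit a ∧ v' = spR (hη y) a • sp F (hη y) ty := by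
    intro y hyx hy1
    have hy := coheight_of_dim_one hy1
    obtain ⟨ty, hty⟩ := exists_gen_of_isRef1 hX hF hy
    obtain ⟨φ, hφ, hvφ⟩ := exists_coeff hty hv'
    have hzero : ordg φ y = 0 := by
      have h1 : secOrd F v' y = ordg φ y := by rw [hvφ]; exact secOrd_gen hy hty hφ
      have h2 : secOrd F v' y = ordg d y + secOrd F v y := secOrd_smul hy hty hd0 hv
      have h3 := congrArg (fun t => ordg t y) hd
      rw [ordg_mul hd0 hc0, ordg_one, hc y hyx hy] at h3
      omega
    obtain ⟨a, ha, rfl⟩ := exists_isUnit_of_forall_ord_zero hX y hφ fun z hzy hz => by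
      rw [eq_of_specializes_coheight_one hy hzy (ne_genericPoint_of_coheight_one hz)]; exact hzero
    exact ⟨ty, a, hty, ha, hvφ⟩
  have hreflx : RefHull.IsReflexiveAt F x := (HomSh.isReflexive_iff hrel).1 hF.2.1 x
  obtain ⟨t, ht⟩ := exists_sp_eq_of_forall_dim_one hX F x hreflx v' fun y hyx hy => by
    obtain ⟨ty, a, -, -, hva⟩ := hloc y hyx hy
    exact ⟨a • ty, by rw [sp_smul, ← hva]⟩
  have hinj := injective_sp_of_isRef1 hX hF x
  have hgen' := gen_of_ne_zero he hv'
  refine ⟨t, fun a b hab => ?_, fun u => ?_⟩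
  · have := congrArg (sp F (hη x)) hab
    rw [sp_smul, sp_smul, ht] at this
    exact spR_injective x (hgen'.1 this)
  · obtain ⟨φ, hφ⟩ := hgen'.2 (sp F (hη x) u)
    dsimp only at hφ
    obtain ⟨r, hr⟩ := exists_spR_eq_of_forall_dim_one hX x φ fun y hyx hy => by
      obtain ⟨ty, a, hty, ha, hva⟩ := hloc y hyx hy
      obtain ⟨b, hb⟩ := hty.2 (sp F hyx u)
      obtain ⟨a', ha'⟩ := ha.exists_left_inv
      refine ⟨a' * b, hgen'.1 ?_⟩
      show spR (hη y) (a' * b) • v' = φ • v'
      rw [hφ, ← sp_sp F (hη y) hyx, ← hb, sp_smul, hva, ← mul_smul, ← map_mul, mul_right_comm, ha', one_mul]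
    exact ⟨r, hinj (by rw [sp_smul, ht, hr, hφ])⟩

include hX in
/-- Free everywhere, given free at a set and parafactorial elsewhere. -/
theorem exists_gen {F : X.Modules} (hF : RefHull.IsRef1 F) {v : F.presheaf.stalk (genericPoint X)}
    (hv : v ≠ 0) (S : Set X) (hS : ∀ s ∈ S, ∃ t, Gen F s t)
    (hpar : ∀ x : X, closure {x} ∩ S = ∅ → (2 : WithBot ℕ∞) ≤ ringKrullDim (X.presheaf.stalk x) →
      ParaF.IsParafactorialLocalRing (X.presheaf.stalk x)) (x₀ : X) : ∃ t, Gen F x₀ t := by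
  have := hF.1.1
  let U : X.Opens := sSup {V | ∃ e : Γ(F, V), InvExt.IsGen F V e}
  have hU : ∀ z : X, z ∈ U ↔ ∃ t, Gen F z t := fun z => by
    constructor
    · intro hz
      obtain ⟨V, ⟨e, he⟩, hzV⟩ := Opens.mem_sSup.1 hz
      exact ⟨_, gen_of_isGen he hzV⟩
    · rintro ⟨t, ht⟩
      obtain ⟨V, e, hzV, he⟩ := exists_isGen_nhd hF ht
      exact Opens.mem_sSup.2 ⟨V, ⟨e, he⟩, hzV⟩
  rw [← hU]
  by_contra hx₀
  obtain ⟨x, hxC, -, hmax⟩ := Depth.exists_maximal_generalization U.isOpen.isClosed_compl hx₀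
  have hxU : x ∉ U := hxC
  have hgen : ∀ z : X, z ⤳ x → z ≠ x → z ∈ U := fun z hz hne => by_contra fun h => hne (hmax z h hz)
  have hdis : closure {x} ∩ S = ∅ := by
    rw [Set.eq_empty_iff_forall_notMem]
    rintro s ⟨hs, hsS⟩
    exact hxU ((specializes_iff_mem_closure.2 hs).mem_open U.isOpen ((hU s).2 (hS s hsS)))
  have hdim : (2 : WithBot ℕ∞) ≤ ringKrullDim (X.presheaf.stalk x) := by
    by_contra hlt
    have hne : x ≠ genericPoint X := by
      rintro rfl
      exact hxU ((hU _).2 (exists_gen_of_genInvertible hF.2.2))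
    rw [ringKrullDim_stalk_eq_coheight] at hlt
    have h0 : Order.coheight x ≠ 0 := by
      intro h0
      exact hne (((genericPoint_spec X).specializes (Set.mem_univ x)).antisymm
        ((Order.coheight_eq_zero.1 h0) (show x ≤ genericPoint X from
          (genericPoint_spec X).specializes (Set.mem_univ x)))).symm.eq
    have h1 : Order.coheight x = 1 := by
      revert hlt h0
      generalize Order.coheight x = n
      intro hlt h0
      refine le_antisymm ?_ (Order.one_le_iff_pos.2 (pos_iff_ne_zero.2 h0))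
      by_contra hn
      refine hlt ?_
      have h2 : (2 : ℕ∞) ≤ n := by
        rw [show (2 : ℕ∞) = 1 + 1 from rfl]
        exact Order.add_one_le_of_lt (not_le.1 hn)
      exact (WithBot.coe_le_coe.2 h2)
    exact hxU ((hU x).2 (exists_gen_of_isRef1 hX hF h1))
  obtain ⟨V', hV', hxV', -⟩ := exists_isAffineOpen_mem_and_subset (show x ∈ (⊤ : X.Opens) from trivial)
  let W : X.Opens := U ⊓ V'
  have hM : ∀ w ∈ W, ParaPair.GenNear F w := fun w hw => by
    obtain ⟨t, ht⟩ := (hU w).1 hw.1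
    obtain ⟨V, e, hwV, he⟩ := exists_isGen_nhd hF ht
    exact ⟨V, e, hwV, he⟩
  obtain ⟨Λ, hΛ, e, hΛgen, he⟩ := ParaLocal.exists_gen_punctured F hV' hxV' (inf_le_right : W ≤ V')
    (fun h => hxU h.1) (fun z hz hne => ⟨hgen z hz hne, hz.mem_open V'.2 hxV'⟩) hM
    ((ParaPair.isParafactorialLocalRing_iff _).1 (hpar x hdis hdim)).2
  have hηΛ : genericPoint X ∈ Λ := by
    refine hΛgen _ (hη x) fun hne => hxU ?_
    rw [← hne]
    exact (hU _).2 (exists_gen_of_genInvertible hF.2.2)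
  obtain ⟨c, hc0, hvc⟩ := exists_coeff (gen_of_isGen he hηΛ) hv
  refine hxU ((hU x).2 (exists_gen_of_principal hX hF hv hc0 fun y hyx hy => ?_))
  have hyΛ : y ∈ Λ := by
    refine hΛgen y hyx fun hne => ?_
    subst hne
    rw [ringKrullDim_stalk_eq_coheight, hy] at hdim
    exact absurd hdim (by decide)
  have key : sp F (hη (genericPoint X)) (F.presheaf.germ Λ (genericPoint X) hηΛ (InvExt.mres F hΛ e)) =
      sp F (hη y) (F.presheaf.germ Λ y hyΛ (InvExt.mres F hΛ e)) := by rw [sp_germ, sp_germ]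
  rw [hvc, key, secOrd_gen hy (gen_of_isGen he hyΛ) hc0]

include hX in
/-- Principal on `S` and parafactorial elsewhere is principal everywhere. -/
theorem principalAt (S : Set X)
    (hpar : ∀ x : X, closure {x} ∩ S = ∅ → (2 : WithBot ℕ∞) ≤ ringKrullDim (X.presheaf.stalk x) →
      ParaF.IsParafactorialLocalRing (X.presheaf.stalk x))
    (Z : X → ℤ) (hZ : ∀ x : X, Order.coheight x ≠ 1 → Z x = 0)
    (hZfin : ∀ x : X, ∃ W : X.Opens, x ∈ W ∧ {z : X | z ∈ W ∧ Z z ≠ 0}.Finite)
    (hS : ∀ s : X, s ∈ S →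
        ∃ f : X.functionField, f ≠ 0 ∧ ∀ x' : X, Order.coheight x' = 1 → x' ⤳ s → Z x' = Scheme.ord f x')
    (x : X) :
    ∃ f : X.functionField, f ≠ 0 ∧ ∀ x' : X, Order.coheight x' = 1 → x' ⤳ x → Z x' = Scheme.ord f x' := by
  let D : AlgebraicCycle X ℤ := ⟨Z, by simp, fun z _ => by
    obtain ⟨W, hW, hfin⟩ := hZfin z
    exact ⟨W, W.2.mem_nhds hW, hfin⟩⟩
  obtain ⟨F, hF, s, hs, hsD⟩ := (Groth.Agent.S16087.result X hX).2 D hZ
  obtain ⟨v, rfl⟩ := exists_eq_mk s
  have hv : v ≠ 0 := fun e => hs (by rw [e]; exact Submodule.Quotient.mk_zero _)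
  have hZord : ∀ y : X, Order.coheight y = 1 → Z y = secOrd F v y := fun y hy => hsD y hy
  have := hF.1.1
  obtain ⟨t, ht⟩ := exists_gen hX hF hv S (fun s hs => by
    obtain ⟨f, hf, hfs⟩ := hS s hs
    refine exists_gen_of_principal hX hF hv (c := f) hf fun y hys hy => ?_
    rw [← hZord y hy, hfs y hy hys]) hpar x
  obtain ⟨V, e, hxV, he⟩ := exists_isGen_nhd hF ht
  obtain ⟨c, hc0, hvc⟩ := exists_coeff (gen_of_isGen he hxV) hv
  refine ⟨(c : X.functionField), hc0, fun y hy hyx => ?_⟩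
  rw [hZord y hy, hvc, ← sp_sp F (hη y) hyx, sp_germ,
    secOrd_gen hy (gen_of_isGen he (hyx.mem_open V.2 hxV)) hc0]

end GrothLib.PrincipalAt
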